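import Mathlib

/-!
# Commuting elements of two prime orders

`Pair p q G`: there are commuting elements of orders `p` and `q`.
-/

set_option autoImplicit false

namespace Cfsg.Agent.H545.PQ

universe u v

/-- There are commuting elements of orders `p` and `q`. -/
def Pair (p q : ℕ) (G : Type u) [Group G] : Prop :=
  ∃ x y : G, orderOf x = p ∧ orderOf y = q ∧ x * y = y * x

variable {G : Type u} [Group G] {H : Type v} [Group H] {p q : ℕ}

theorem Pair.symm (h : Pair p q G) : Pair q p G := by
  obtain ⟨x, y, hx, hy, hxy⟩ := h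
  exact ⟨y, x, hy, hx, hxy.symm⟩

/-- Pairs are transported by injective homomorphisms. -/
theorem Pair.map (h : Pair p q H) (f : H →* G) (hf : Function.Injective f) : Pair p q G := by
  obtain ⟨x, y, hx, hy, hxy⟩ := h
  refine ⟨f x, f y, ?_, ?_, ?_⟩
  · rw [orderOf_injective f hf, hx]
  · rw [orderOf_injective f hf, hy]
  · rw [← map_mul, ← map_mul, hxy]

theorem Pair.equiv (h : Pair p q H) (e : G ≃* H) : Pair p q G :=
  h.map e.symm.toMonoidHom e.symm.injective

theorem Pair.sub {K : Subgroup G} (h : Pair p q K) : Pair p q G :=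
  h.map K.subtype K.subtype_injective

/-- A pair gives an element of order `p q`. -/
theorem Pair.exists_orderOf (h : Pair p q G) (hpq : p.Coprime q) : ∃ g : G, orderOf g = p * q := by
  obtain ⟨x, y, hx, hy, hxy⟩ := h
  refine ⟨x * y, ?_⟩
  rw [(show Commute x y from hxy).orderOf_mul_eq_mul_orderOf_of_coprime (by rw [hx, hy]; exact hpq), hx, hy]

theorem Pair.not (h : Pair p q G) (hpq : p.Coprime q) (hn : ∀ g : G, orderOf g ≠ p * q) : False := by
  obtain ⟨g, hg⟩ := h.exists_orderOf hpq
  exact hn g hg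

/-- A prime divisor of the order of the centraliser of an element of order `p`. -/
theorem pair_of_dvd [Finite G] {x : G} (hx : orderOf x = p) (hq : q.Prime)
    (hd : q ∣ Nat.card (Subgroup.centralizer ({x} : Set G))) : Pair p q G := by
  have : Fact q.Prime := ⟨hq⟩
  obtain ⟨y, hy⟩ := exists_prime_orderOf_dvd_card' q hd
  rw [← Subgroup.orderOf_coe] at hy
  exact ⟨x, y, hx, hy, Subgroup.mem_centralizer_iff.mp y.2 x (Set.mem_singleton x)⟩

/-- The same with a subgroup of the centraliser. -/
theorem pair_of_dvd_sub [Finite G] {x : G} (hx : orderOf x = p) (hq : q.Prime) {K : Subgroup G}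
    (hK : ∀ k ∈ K, x * k = k * x) (hd : q ∣ Nat.card K) : Pair p q G := by
  have : Fact q.Prime := ⟨hq⟩
  obtain ⟨y, hy⟩ := exists_prime_orderOf_dvd_card' q hd
  rw [← Subgroup.orderOf_coe] at hy
  exact ⟨x, y, hx, hy, hK y y.2⟩

/-- An element whose order is divisible by `p q`. -/
theorem pair_of_orderOf [Finite G] (hp : p.Prime) (hq : q.Prime) {g : G}
    (h : p * q ∣ orderOf g) : Pair p q G := by
  have h0 : 0 < orderOf g := orderOf_pos g
  have hp' : p ∣ orderOf g := (dvd_mul_right p q).trans h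
  have hq' : q ∣ orderOf g := (dvd_mul_left q p).trans h
  refine ⟨g ^ (orderOf g / p), g ^ (orderOf g / q), ?_, ?_, ?_⟩
  · rw [orderOf_pow_of_dvd (Nat.div_pos (Nat.le_of_dvd h0 hp') hp.pos).ne' (Nat.div_dvd_of_dvd hp'),
      Nat.div_div_self hp' h0.ne']
  · rw [orderOf_pow_of_dvd (Nat.div_pos (Nat.le_of_dvd h0 hq') hq.pos).ne' (Nat.div_dvd_of_dvd hq'),
      Nat.div_div_self hq' h0.ne']
  · rw [← pow_add, ← pow_add, add_comm]

/-- Pairs lift along a homomorphism: if `f x` and `f y` form a pair then there is one in the source. -/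
theorem Pair.of_surjective [Finite G] (h : Pair p q H) (f : G →* H) (hf : Function.Surjective f) (hp : p.Prime)
    (hq : q.Prime) (hpq : p ≠ q) : Pair p q G := by
  obtain ⟨y, hy⟩ := h.exists_orderOf ((Nat.coprime_primes hp hq).mpr hpq)
  obtain ⟨g, rfl⟩ := hf y
  refine pair_of_orderOf hp hq (g := g) ?_
  rw [← hy]
  exact orderOf_map_dvd f g

/-- A `q`-element acting on a normal cyclic subgroup of order `p` with `q ∤ p - 1` centralises it. -/
theorem pair_of_normal [Finite G] (hp : p.Prime) (hq : q.Prime) (hpq : ¬ q ∣ p - 1) {N : Subgroup G} (hN : N.Normal)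
    (hc : Nat.card N = p) (hd : q ∣ Nat.card G) : Pair p q G := by
  have : Fact p.Prime := ⟨hp⟩
  have : Fact q.Prime := ⟨hq⟩
  obtain ⟨y, hy⟩ := exists_prime_orderOf_dvd_card' q hd
  have hcyc : IsCyclic N := isCyclic_of_prime_card hc
  obtain ⟨x, hx⟩ := exists_prime_orderOf_dvd_card' (G := N) p (by rw [hc])
  refine ⟨x, y, by rw [Subgroup.orderOf_coe, hx], hy, ?_⟩
  have h1 : orderOf (MulAut.conjNormal (H := N) y) ∣ q := by
    rw [← hy]; exact orderOf_map_dvd _ y
  have h2 : orderOf (MulAut.conjNormal (H := N) y) ∣ p - 1 := by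
    have h3 := orderOf_dvd_natCard (MulAut.conjNormal (H := N) y)
    have h4 : Nat.card (MulAut N) = p - 1 := by
      rw [IsCyclic.card_mulAut, hc, Nat.totient_prime hp]
    rwa [h4] at h3
  have h5 : orderOf (MulAut.conjNormal (H := N) y) = 1 := by
    rcases (Nat.dvd_prime hq).mp h1 with h | h
    · exact h
    · exact absurd (h ▸ h2) hpq
  rw [orderOf_eq_one_iff] at h5
  have h6 := congrArg (fun f : MulAut N => ((f x : N) : G)) h5
  simp only [MulAut.conjNormal_apply, MulAut.one_apply] at h6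
  rw [mul_inv_eq_iff_eq_mul] at h6
  exact h6.symm

/-- A point of period `p q` under an element `g` shows that `p q` divides the order of `g`. -/
theorem dvd_orderOf_of_period {α : Type*} (f : G → α → α) (g : G) (hf : ∀ n : ℕ, f (g ^ n) = (f g)^[n])
    (h1 : ∀ a, f 1 a = a) (hp : p.Prime) (hq : q.Prime) (a : α) (hpq : (f g)^[p * q] a = a)
    (hp1 : (f g)^[p] a ≠ a) (hq1 : (f g)^[q] a ≠ a) : p * q ∣ orderOf g := by
  have h0 : Function.minimalPeriod (f g) a ∣ p * q := Function.IsPeriodicPt.minimalPeriod_dvd hpq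
  have h2 : ¬ Function.minimalPeriod (f g) a ∣ p := fun hd => by
    obtain ⟨c, hc⟩ := hd
    exact hp1 ((Function.isPeriodicPt_minimalPeriod (f g) a).mul_const c |> fun h => by rwa [← hc] at h)
  have h3 : ¬ Function.minimalPeriod (f g) a ∣ q := fun hd => by
    obtain ⟨c, hc⟩ := hd
    exact hq1 ((Function.isPeriodicPt_minimalPeriod (f g) a).mul_const c |> fun h => by rwa [← hc] at h)
  have h4 : Function.minimalPeriod (f g) a = p * q := by
    rcases (Nat.dvd_mul.mp h0) with ⟨u, v, hu, hv, huv⟩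
    rcases (Nat.dvd_prime hp).mp hu with rfl | rfl
    · rw [one_mul] at huv
      exact absurd (huv ▸ hv) h3
    · rcases (Nat.dvd_prime hq).mp hv with rfl | rfl
      · rw [mul_one] at huv
        exact absurd (huv ▸ dvd_rfl) h2
      · exact huv.symm
  rw [← h4]
  apply Function.IsPeriodicPt.minimalPeriod_dvd
  change (f g)^[orderOf g] a = a
  rw [← hf, pow_orderOf_eq_one, h1]

/-- The same for a homomorphism to permutations, and the pair. -/
theorem pair_of_period [Finite G] {α : Type*} (f : G →* Equiv.Perm α) (g : G) (hp : p.Prime) (hq : q.Prime) (a : α)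
    (hpq : f (g ^ (p * q)) a = a) (hp1 : f (g ^ p) a ≠ a) (hq1 : f (g ^ q) a ≠ a) : Pair p q G := by
  have hf : ∀ n : ℕ, (fun g : G => (f g : α → α)) (g ^ n) = ((fun g : G => (f g : α → α)) g)^[n] := by
    intro n
    change ((f (g ^ n) : Equiv.Perm α) : α → α) = _
    rw [map_pow, Equiv.Perm.coe_pow]
  refine pair_of_orderOf hp hq (g := g) ?_
  refine dvd_orderOf_of_period (fun g : G => (f g : α → α)) g hf (by simp) hp hq a ?_ ?_ ?_
  · rw [← hf]; exact hpq
  · rw [← hf]; exact hp1
  · rw [← hf]; exact hq1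

end Cfsg.Agent.H545.PQ
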