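import Cfsg.Agent.H545.PQ.Basic
import Cfsg.Agent.SporRec.Fi23Perm
import Cfsg.Agent.Fischer.Fi23Simple

/-!
# The Fischer group Fi23 has elements of order 6
-/

set_option autoImplicit false
set_option maxRecDepth 100000

namespace Cfsg.Agent.H545.PQ.FischerB

open Cfsg Cfsg.Spor Cfsg.Agent.Lib.PermNet Cfsg.Agent.Lib.PermNetOrbit Cfsg.Agent.H545.PQ
open Cfsg.Agent.SporRec.Fi23Rel Cfsg.Agent.SporRec.Fi23Perm

theorem pair_of_word [Finite Spor.Fi23] {p q : ℕ} (hp : p.Prime) (hq : q.Prime) (w : List Gen) (i : ℕ)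
    (h : (Nat.beq (ptWord ((rep (p * q) w).map net) i) i && (!Nat.beq (ptWord ((rep p w).map net) i) i &&
      !Nat.beq (ptWord ((rep q w).map net) i) i)) = true) : Pair p q Spor.Fi23 := by
  simp only [Bool.and_eq_true, Bool.not_eq_true'] at h
  obtain ⟨h1, h2, h3⟩ := h
  have hm : ∀ v : List Gen, φ (ev gen v) = ev pm v := by
    intro v
    unfold ev
    rw [map_list_prod, List.map_map]
    congr 1
  have hk : ∀ n, φ (ev gen w ^ n) i = ptWord ((rep n w).map net) i := by
    intro n
    rw [← ev_rep, hm, ptWord_eq (wok _), wperm_map]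
  refine pair_of_period φ (ev gen w) hp hq i ?_ ?_ ?_
  · rw [hk]
    exact Nat.eq_of_beq_eq_true h1
  · rw [hk]
    exact Nat.ne_of_beq_eq_false h2
  · rw [hk]
    exact Nat.ne_of_beq_eq_false h3

theorem card : Nat.card Spor.Fi23 = 4089470473293004800 := Fischer.Fi23Simple.card_Fi23

theorem finite : Finite Spor.Fi23 := by
  refine Nat.finite_of_card_ne_zero ?_
  rw [card]
  norm_num

theorem pair_two_three {X : Type*} [Group X] (h : Spor.IsoFi23 X) : Pair 2 3 X := by
  obtain ⟨e⟩ := h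
  have : Finite Spor.Fi23 := finite
  exact (pair_of_word (by norm_num) (by norm_num) [.a, .f, .g] 50 (by decide +kernel)).equiv e

end Cfsg.Agent.H545.PQ.FischerB
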