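import Cfsg.Agent.H545.PQ.Basic
import Cfsg.Agent.S1695

/-!
# The Held group has elements of orders 6, 14, 21

The words were found by computer; they are checked on one point of the permutation representation of degree 2058.
-/

set_option autoImplicit false

namespace Cfsg.Agent.H545.PQ.Held

open Cfsg Cfsg.Spor Cfsg.Spor.He Cfsg.Agent.H545.PQ Cfsg.Agent.SporadicB.HePerm

theorem wd_powWord (w : List Gen) (n : ℕ) : wd (powWord w n) = wd w ^ n := powWord_prod _ w n

theorem pair_of_word [Finite Cfsg.Spor.He] {p q : ℕ} (hp : p.Prime) (hq : q.Prime) (w : List Gen) (i : Fin 2058)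
    (h : (Nat.beq (act (powWord w (p * q)) i) i && (!Nat.beq (act (powWord w p) i) i &&
      !Nat.beq (act (powWord w q) i) i)) = true) : Pair p q Cfsg.Spor.He := by
  simp only [Bool.and_eq_true, Bool.not_eq_true'] at h
  obtain ⟨h1, h2, h3⟩ := h
  refine pair_of_period phi (wd w) hp hq i ?_ ?_ ?_
  · rw [← wd_powWord]
    apply Fin.ext
    rw [phi_wd_apply]
    exact Nat.eq_of_beq_eq_true h1
  · rw [← wd_powWord]
    intro h
    have := congrArg Fin.val h
    rw [phi_wd_apply] at this
    exact Nat.ne_of_beq_eq_false h2 this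
  · rw [← wd_powWord]
    intro h
    have := congrArg Fin.val h
    rw [phi_wd_apply] at this
    exact Nat.ne_of_beq_eq_false h3 this

theorem finite : Finite Cfsg.Spor.He := by
  refine Nat.finite_of_card_ne_zero ?_
  rw [S1695.result.2]
  norm_num

theorem card : Nat.card Cfsg.Spor.He = 4030387200 := S1695.result.2

theorem pair_three_seven : Pair 3 7 Cfsg.Spor.He :=
  have := finite
  pair_of_word (by norm_num) (by norm_num) [.b, .d, .a, .c] 15 (by decide +kernel)

theorem pair_two_seven : Pair 2 7 Cfsg.Spor.He :=
  have := finite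
  pair_of_word (by norm_num) (by norm_num) [.f, .g, .a, .d] 8 (by decide +kernel)

theorem pair_two_three : Pair 2 3 Cfsg.Spor.He :=
  have := finite
  pair_of_word (by norm_num) (by norm_num) [.b, .c, .a] 3 (by decide +kernel)

end Cfsg.Agent.H545.PQ.Held
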