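import Cfsg.Agent.H545.PQ.Basic
import Cfsg.Agent.CpAutTThree.JTwo
import Cfsg.Agent.CpAutJThree.Row

/-!
# The Janko groups `J₂` and `J₃` have elements of order 6
-/

set_option autoImplicit false

namespace Cfsg.Agent.H545.PQ.JTwoThree

open Cfsg Cfsg.Spor Cfsg.Agent.H545.PQ

theorem j2 {G : Type*} [Group G] (h : Cfsg.Spor.IsoJ2 G) : Pair 2 3 G := by
  obtain ⟨e⟩ := h
  refine Pair.equiv ?_ e
  have hfin : Finite Spor.J2 := CpAutTThree.JTwo.finite_J2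
  have h3 : Fact (Nat.Prime 3) := ⟨Nat.prime_three⟩
  obtain ⟨x, hx⟩ := exists_prime_orderOf_dvd_card' (G := Spor.J2) 3 (by
    rw [S1619.result.2.2.2]; norm_num)
  refine (pair_of_dvd hx Nat.prime_two ?_).symm
  rcases CpAutTThree.JTwo.card_three hx with h | h <;> rw [h] <;> norm_num

theorem j3 {G : Type*} [Group G] (h : Cfsg.Spor.IsoJ3 G) : Pair 2 3 G := by
  obtain ⟨c, hc, ⟨t, ht, htc⟩, -⟩ := CpAutJThree.exc h
  exact ⟨t, c, ht, hc, htc⟩

end Cfsg.Agent.H545.PQ.JTwoThree
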