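import Cfsg.Agent.H545.PQ.Basic
import Cfsg.Agent.FooteOdd.SporMEleven
import Cfsg.Agent.HNType.Alt
import Cfsg.Agent.S0435

/-!
# The Mathieu groups `M₁₁`, `M₁₂`, `M₂₄` have elements of order 6
-/

set_option autoImplicit false

namespace Cfsg.Agent.H545.PQ.Mathieu

open Cfsg Cfsg.Spor Cfsg.Agent.H545.PQ

theorem m11 : Pair 2 3 Cfsg.Spor.M11 := by
  have : Finite Cfsg.Spor.M11 := inferInstance
  have h : Cfsg.IsM11 Cfsg.Spor.M11 := ⟨FooteOdd.SporMEleven.simple, HNType.Alt.card_M11⟩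
  have h2 : Fact (Nat.Prime 2) := ⟨Nat.prime_two⟩
  obtain ⟨x, hx⟩ := exists_prime_orderOf_dvd_card' (G := Cfsg.Spor.M11) 2 (by
    rw [HNType.Alt.card_M11]; norm_num)
  refine pair_of_dvd hx Nat.prime_three ?_
  rw [S0435.result h x hx]
  norm_num

theorem m12 : Pair 2 3 Cfsg.Spor.M12 :=
  m11.map _ (Subgroup.inclusion_injective (inf_le_left : Cfsg.Spor.M11 ≤ Cfsg.Spor.M12))

theorem m24 : Pair 2 3 Cfsg.M24 :=
  m12.map _ (Subgroup.inclusion_injective (inf_le_left : Cfsg.Spor.M12 ≤ Cfsg.M24))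

end Cfsg.Agent.H545.PQ.Mathieu
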