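import Cfsg.Agent.H545.PQ.Alt
import Cfsg.Agent.Th.Main475
import Cfsg.Agent.S1700

/-!
# The Thompson group has elements of orders 6, 10, 15 (in an involution centraliser `2^{1+8}.A₉`)
-/

set_option autoImplicit false

namespace Cfsg.Agent.H545.PQ.Thompson

open Cfsg Cfsg.Spor Cfsg.Agent.H545.PQ

theorem card : Nat.card Cfsg.Spor.Th = 90745943887872000 := S1700.result.2

theorem finite : Finite Cfsg.Spor.Th := Nat.finite_of_card_ne_zero (by rw [card]; norm_num)

theorem pair_three_five : Pair 3 5 Cfsg.Spor.Th := by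
  have := finite
  obtain ⟨z, -, Q, hQ, -, -, ⟨e⟩⟩ := Th.Main475.main
  have h1 : Pair 3 5 ((Subgroup.centralizer ({z} : Set Cfsg.Spor.Th)) ⧸ Q) := Alt.pair_three_five_nine.equiv e
  exact (h1.of_surjective (QuotientGroup.mk' Q) (QuotientGroup.mk'_surjective Q) (by norm_num) (by norm_num)
    (by norm_num)).sub

theorem pair_two {p : ℕ} (hp : p.Prime) (hd : p ∣ 181440) : Pair 2 p Cfsg.Spor.Th := by
  have := finite
  obtain ⟨z, hz, Q, hQ, -, -, ⟨e⟩⟩ := Th.Main475.main
  refine pair_of_dvd hz hp ?_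
  rw [Subgroup.card_eq_card_quotient_mul_card_subgroup Q, Nat.card_congr e.toEquiv]
  have h9 : Nat.card (alternatingGroup (Fin 9)) = 181440 := by
    rw [nat_card_alternatingGroup, Nat.card_fin]
    rfl
  rw [h9]
  exact hd.mul_right _

theorem pair_two_three : Pair 2 3 Cfsg.Spor.Th := pair_two (by norm_num) (by norm_num)

theorem pair_two_five : Pair 2 5 Cfsg.Spor.Th := pair_two (by norm_num) (by norm_num)

end Cfsg.Agent.H545.PQ.Thompson
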