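import Cfsg.Agent.H545.PQ.Basic
import Cfsg.Agent.SporRec.SuzPerm
import Cfsg.Agent.SporadicRecognition.SuzBound

/-!
# The sporadic Suzuki group has elements of order 6
-/

set_option autoImplicit false

namespace Cfsg.Agent.H545.PQ.Suzuki

open Cfsg Cfsg.Spor Cfsg.Agent.H545.PQ Cfsg.Agent.SporRec.SuzPerm

/-- The element of a word. -/
def el (w : List Suz.Gen) : Cfsg.Spor.Suz :=
  (w.map fun x => (PresentedGroup.mk (coxRelators Suz.edges ∪ {r | r ∈ Suz.extra}) (FreeGroup.of x) :
    Cfsg.Spor.Suz)).prod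

theorem phi_el (w : List Suz.Gen) : φ (el w) = (w.map gen).prod := by
  unfold el
  rw [map_list_prod, List.map_map]
  congr 1

/-- Powers of words. -/
def powWord (w : List Suz.Gen) : ℕ → List Suz.Gen
  | 0 => []
  | n + 1 => powWord w n ++ w

theorem el_append (v w : List Suz.Gen) : el (v ++ w) = el v * el w := by
  simp [el]

theorem el_pow (w : List Suz.Gen) (n : ℕ) : el (powWord w n) = el w ^ n := by
  induction n with
  | zero => simp [powWord, el]
  | succ n ih => rw [powWord, el_append, ih, pow_succ]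

theorem pair_of_word [Finite Cfsg.Spor.Suz] {p q : ℕ} (hp : p.Prime) (hq : q.Prime) (w : List Suz.Gen) (i : Fin 1782)
    (h : (Nat.beq (tr (powWord w (p * q)) i) i && (!Nat.beq (tr (powWord w p) i) i &&
      !Nat.beq (tr (powWord w q) i) i)) = true) : Pair p q Cfsg.Spor.Suz := by
  simp only [Bool.and_eq_true, Bool.not_eq_true'] at h
  obtain ⟨h1, h2, h3⟩ := h
  refine pair_of_period φ (el w) hp hq i ?_ ?_ ?_
  · rw [← el_pow, phi_el]
    apply Fin.ext
    rw [prod_val]
    exact Nat.eq_of_beq_eq_true h1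
  · rw [← el_pow, phi_el]
    intro h
    have := congrArg Fin.val h
    rw [prod_val] at this
    exact Nat.ne_of_beq_eq_false h2 this
  · rw [← el_pow, phi_el]
    intro h
    have := congrArg Fin.val h
    rw [prod_val] at this
    exact Nat.ne_of_beq_eq_false h3 this

theorem pair_two_three {X : Type*} [Group X] (h : Spor.IsoSuz X) : Pair 2 3 X := by
  obtain ⟨e⟩ := h
  have : Finite Cfsg.Spor.Suz := SporadicRecognition.SuzBound.finite_Suz
  exact (pair_of_word (by norm_num) (by norm_num) [.a, .d, .e] 4 (by decide +kernel)).equiv e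

end Cfsg.Agent.H545.PQ.Suzuki
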