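import Cfsg.Agent.H545.PQ.Conway
import Cfsg.Agent.BM.KHAll
import Cfsg.Agent.BabyM.Instance
import Cfsg.Agent.Schreier.CoTwoStab
import Cfsg.Agent.S1704

/-!
# The Baby Monster has elements of orders 6, 10, 15 (in `2^{1+22}.Co₂`)
-/

set_option autoImplicit false

namespace Cfsg.Agent.H545.PQ.Baby

open Cfsg Cfsg.Spor Cfsg.Agent.H545.PQ Cfsg.Agent.BabyM

theorem card : Nat.card Cfsg.Spor.BabyMonster = 4154781481226426191177580544000000 := S1704.result.2

theorem of_co2 {p q : ℕ} (hp : p.Prime) (hq : q.Prime) (hpq : p ≠ q) (h : Pair p q Cfsg.Spor.Co2) :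
    Pair p q Cfsg.Spor.BabyMonster := by
  refine Pair.equiv ?_ BM.KHAll.iso
  have hfin : Finite Inst.M.G := Instance.all.finite_G
  have hle : Inst.M.C ≤ Inst.M.G := fun g hg => Instance.all.C_le_G hg
  have hfC : Finite Inst.M.C := Finite.of_injective _ (Subgroup.inclusion_injective hle)
  obtain ⟨π, hs, -⟩ := Instance.all.grp.quot
  obtain ⟨e⟩ := Schreier.CoTwoStab.exists_equiv _ GroupInst.dt_l₀
  exact ((h.equiv e).of_surjective π hs hp hq hpq).map _ (Subgroup.inclusion_injective hle)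

theorem pairs : Conway.Three Cfsg.Spor.BabyMonster :=
  ⟨of_co2 (by norm_num) (by norm_num) (by norm_num) Conway.co2.1,
    of_co2 (by norm_num) (by norm_num) (by norm_num) Conway.co2.2.1,
    of_co2 (by norm_num) (by norm_num) (by norm_num) Conway.co2.2.2⟩

end Cfsg.Agent.H545.PQ.Baby
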