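import Cfsg.Agent.H545.PQ.Basic
import Cfsg.Agent.Fischer.Fi22Order

/-!
# The Fischer group Fi22 has elements of order 6
-/

set_option autoImplicit false
set_option maxRecDepth 100000

namespace Cfsg.Agent.H545.PQ.FischerA

open Cfsg Cfsg.Spor Cfsg.Spor.Fi22 Cfsg.Agent.Lib.PermNet Cfsg.Agent.Lib.PermNetOrbit Cfsg.Agent.H545.PQ
open Cfsg.Agent.Fischer.Fi22PtsRep

theorem pair_of_word [Finite Spor.Fi22] {p q : ℕ} (hp : p.Prime) (hq : q.Prime) (w : List Gen) (i : ℕ)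
    (h : (Nat.beq (ptWord (wpow (nw w) (p * q)) i) i && (!Nat.beq (ptWord (wpow (nw w) p) i) i &&
      !Nat.beq (ptWord (wpow (nw w) q) i) i)) = true) : Pair p q Spor.Fi22 := by
  simp only [Bool.and_eq_true, Bool.not_eq_true'] at h
  obtain ⟨h1, h2, h3⟩ := h
  have hk : ∀ n, φ (wd w ^ n) i = ptWord (wpow (nw w) n) i := by
    intro n
    rw [map_pow, φ_wd, ptWord_eq (WOk.wpow (nw_ok w) n), wperm_wpow]
  refine pair_of_period φ (wd w) hp hq i ?_ ?_ ?_
  · rw [hk]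
    exact Nat.eq_of_beq_eq_true h1
  · rw [hk]
    exact Nat.ne_of_beq_eq_false h2
  · rw [hk]
    exact Nat.ne_of_beq_eq_false h3

theorem pair_two_three {X : Type*} [Group X] (h : Spor.IsoFi22 X) : Pair 2 3 X := by
  obtain ⟨e⟩ := h
  have : Finite Spor.Fi22 := Fischer.Fi22Order.upper.1
  exact (pair_of_word (by norm_num) (by norm_num) [.a, .f, .g] 20 (by decide +kernel)).equiv e

end Cfsg.Agent.H545.PQ.FischerA
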