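import Cfsg.Agent.H545.PQ.Basic
import Cfsg.Agent.Fischer.Fi24Final
import Cfsg.Agent.S1698

/-!
# The Fischer group Fi24' has elements of orders 6, 14, 21
-/

set_option autoImplicit false
set_option maxRecDepth 100000

namespace Cfsg.Agent.H545.PQ.FischerC

open Cfsg Cfsg.Agent.Lib.PermNet Cfsg.Agent.Lib.PermNetOrbit Cfsg.Agent.H545.PQ
open Cfsg.Agent.Fischer.Fi24Rep Cfsg.Agent.Fischer.Fi24RepDef
open Cfsg.Spor.Fi24 (Gen)

theorem sgn_word (l : List Gen) : Fischer.Fi24Final.sgn (word l) = (-1) ^ l.length := by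
  unfold word
  induction l with
  | nil => simp
  | cons x l ih =>
    rw [List.map_cons, List.prod_cons, map_mul, ih, List.length_cons, pow_succ', ]
    congr 1

theorem word_mem {l : List Gen} (h : Even l.length) : word l ∈ commutator Cfsg.Spor.Fi24 := by
  rw [← Fischer.Fi24Final.ker_sgn, MonoidHom.mem_ker, sgn_word, h.neg_one_pow]

theorem word_rep (w : List Gen) (n : ℕ) : word (rep n w) = word w ^ n := by
  induction n with
  | zero => simp [rep, word]
  | succ n ih =>
    have e : rep (n + 1) w = w ++ rep n w := rfl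
    rw [e, pow_succ', ← ih]
    unfold word
    rw [List.map_append, List.prod_append]

theorem pair_of_word [Finite (commutator Cfsg.Spor.Fi24)] {p q : ℕ} (hp : p.Prime) (hq : q.Prime) (w : List Gen) (hw : Even w.length) (i : ℕ)
    (h : (Nat.beq (ptWord (nw (rep (p * q) w) false) i) i && (!Nat.beq (ptWord (nw (rep p w) false) i) i &&
      !Nat.beq (ptWord (nw (rep q w) false) i) i)) = true) : Pair p q Cfsg.Spor.Fi24' := by
  simp only [Bool.and_eq_true, Bool.not_eq_true'] at h
  obtain ⟨h1, h2, h3⟩ := h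
  have hk : ∀ n, (rho.comp (commutator Cfsg.Spor.Fi24).subtype) ((⟨word w, word_mem hw⟩ : commutator Cfsg.Spor.Fi24) ^ n) i =
      ptWord (nw (rep n w) false) i := by
    intro n
    rw [MonoidHom.comp_apply, Subgroup.coe_subtype, SubgroupClass.coe_pow, ← word_rep, rho_word, ptWord_eq (wok _ _)]
  refine pair_of_period (rho.comp (commutator Cfsg.Spor.Fi24).subtype) ⟨word w, word_mem hw⟩ hp hq i ?_ ?_ ?_
  · rw [hk]
    exact Nat.eq_of_beq_eq_true h1
  · rw [hk]
    exact Nat.ne_of_beq_eq_false h2
  · rw [hk]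
    exact Nat.ne_of_beq_eq_false h3

theorem card : Nat.card Cfsg.Spor.Fi24' = 1255205709190661721292800 := S1698.result.2

theorem finite : Finite Cfsg.Spor.Fi24' := by
  refine Nat.finite_of_card_ne_zero ?_
  rw [card]
  norm_num

theorem pair_two_three : Pair 2 3 Cfsg.Spor.Fi24' :=
  have := finite
  pair_of_word (by norm_num) (by norm_num) [.l, .j, .a, .b] (by decide) 200 (by decide +kernel)

theorem pair_two_seven : Pair 2 7 Cfsg.Spor.Fi24' :=
  have := finite
  pair_of_word (by norm_num) (by norm_num) [.l, .j, .a, .b, .c, .d, .e, .f] (by decide) 100 (by decide +kernel)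

theorem pair_three_seven : Pair 3 7 Cfsg.Spor.Fi24' :=
  have := finite
  pair_of_word (by norm_num) (by norm_num) [.l, .k, .b, .c, .d, .e, .f, .g] (by decide) 50 (by decide +kernel)

end Cfsg.Agent.H545.PQ.FischerC
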