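import Cfsg.Agent.H545.PQ.Basic
import Cfsg.Agent.KFacts.HS.DFour

/-!
# The Higman–Sims group has elements of order 10 (`C(2B) ≥ 2 × A₆`)
-/

set_option autoImplicit false

namespace Cfsg.Agent.H545.PQ.HigmanSims

open Cfsg Cfsg.Spor Cfsg.Agent.H545.PQ Cfsg.Agent.KFacts.HS Cfsg.Agent.KFacts.HS.DFour

theorem pair {L : Type*} [Group L] [Finite L] (h : Cfsg.Spor.IsoHS L) {p : ℕ} (hp : p.Prime) (hd : p ∣ 360) :
    Pair 2 p L := by
  obtain ⟨D⟩ := exists_mod h
  have h2 : orderOf (wB D) = 2 := orderOf_eq_prime (by rw [pow_two]; exact wB_sq D) (wB_ne D)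
  refine pair_of_dvd_sub h2 hp (K := LA D) (fun k hk => (LA_comm D hk).symm) ?_
  rw [card_LA]
  exact hd

theorem pair_two_five {L : Type*} [Group L] [Finite L] (h : Cfsg.Spor.IsoHS L) : Pair 2 5 L :=
  pair h (by norm_num) (by norm_num)

end Cfsg.Agent.H545.PQ.HigmanSims
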