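import Cfsg.Agent.H545.PQ.Basic
import Cfsg.Agent.CpAut.LyFiveRow
import Cfsg.Agent.S1702

/-!
# The Lyons group has elements of orders 6, 10, 15
-/

set_option autoImplicit false

namespace Cfsg.Agent.H545.PQ.Lyons

open Cfsg Cfsg.Spor Cfsg.Agent.H545.PQ

theorem card : Nat.card Cfsg.Spor.Ly = 51765179004000000 := S1702.result.2

theorem pairs : Pair 2 3 Cfsg.Spor.Ly ∧ Pair 2 5 Cfsg.Spor.Ly ∧ Pair 3 5 Cfsg.Spor.Ly := by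
  obtain ⟨z, t, w, hz, ht, hw, htz, hwt, hwz, -⟩ := CpAut.LyFiveRow.exists_data
  exact ⟨⟨t, w, ht, hw, hwt.symm⟩, ⟨t, z, ht, hz, htz⟩, ⟨w, z, hw, hz, hwz⟩⟩

end Cfsg.Agent.H545.PQ.Lyons
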