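import Cfsg.Agent.H545.PQ.Conway
import Cfsg.Agent.RuLat.Main

/-!
# The Rudvalis group has elements of orders 6, 10, 15

The words were found by computer; they are checked on one point of the permutation representation of degree 4060.
-/

set_option autoImplicit false
set_option maxRecDepth 100000

namespace Cfsg.Agent.H545.PQ.Rudvalis

open Cfsg Cfsg.Agent.H545.PQ Cfsg.Agent.Lib.BitNet Cfsg.Agent.SporadicB.RuOrder Cfsg.Agent.SporadicB.RuData

/-- Action of a word of networks on a point. -/
def fw (w : List (List (ℕ × ℕ))) (i : ℕ) : ℕ := w.foldr app i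

theorem exists_el (w : List (List (ℕ × ℕ))) (hw : ∀ g ∈ w, g ∈ [net0, net1, net2, net3, net4, net5]) :
    ∃ g : H, ∀ i : Fin 4060, (((g : Equiv.Perm (Fin 4060)) i : Fin 4060) : ℕ) = fw w i := by
  induction w with
  | nil => exact ⟨1, fun i => rfl⟩
  | cons a w ih =>
    obtain ⟨g, hg⟩ := ih fun g hg => hw g (List.mem_cons_of_mem _ hg)
    obtain ⟨ha, ha'⟩ := gens0 a (hw a List.mem_cons_self)
    refine ⟨⟨perm ha, ha'⟩ * g, fun i => ?_⟩
    rw [Subgroup.coe_mul, Equiv.Perm.mul_apply, perm_apply, hg]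
    rfl

theorem pow_apply {g : H} {w : List (List (ℕ × ℕ))}
    (hg : ∀ i : Fin 4060, (((g : Equiv.Perm (Fin 4060)) i : Fin 4060) : ℕ) = fw w i) (n : ℕ) (i : Fin 4060) :
    (((g : Equiv.Perm (Fin 4060)) ^ n) i : ℕ) = (fw w)^[n] i := by
  induction n with
  | zero => rfl
  | succ n ih => rw [pow_succ', Equiv.Perm.mul_apply, hg, ih, Function.iterate_succ_apply']

instance : Finite H := Subtype.finite

theorem pair_of_word {p q : ℕ} (hp : p.Prime) (hq : q.Prime) (w : List (List (ℕ × ℕ)))
    (hw : ∀ g ∈ w, g ∈ [net0, net1, net2, net3, net4, net5]) (i : Fin 4060)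
    (h : (Nat.beq ((fw w)^[p * q] i) i && (!Nat.beq ((fw w)^[p] i) i && !Nat.beq ((fw w)^[q] i) i)) = true) :
    Pair p q H := by
  simp only [Bool.and_eq_true, Bool.not_eq_true'] at h
  obtain ⟨h1, h2, h3⟩ := h
  obtain ⟨g, hg⟩ := exists_el w hw
  refine pair_of_period H.subtype g hp hq i ?_ ?_ ?_
  · apply Fin.ext
    rw [Subgroup.coe_subtype, SubgroupClass.coe_pow, pow_apply hg]
    exact Nat.eq_of_beq_eq_true h1
  · intro h
    have := congrArg Fin.val h
    rw [Subgroup.coe_subtype, SubgroupClass.coe_pow, pow_apply hg] at this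
    exact Nat.ne_of_beq_eq_false h2 this
  · intro h
    have := congrArg Fin.val h
    rw [Subgroup.coe_subtype, SubgroupClass.coe_pow, pow_apply hg] at this
    exact Nat.ne_of_beq_eq_false h3 this

theorem pairs_H : Conway.Three H :=
  ⟨pair_of_word (by norm_num) (by norm_num) [net0, net3, net0, net3] (by simp) ⟨1, by norm_num⟩ (by decide +kernel),
   pair_of_word (by norm_num) (by norm_num) [net1, net5, net1, net5] (by simp) ⟨0, by norm_num⟩ (by decide +kernel),
   pair_of_word (by norm_num) (by norm_num) [net3, net5] (by simp) ⟨0, by norm_num⟩ (by decide +kernel)⟩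

theorem pairs {X : Type*} [Group X] (h : Spor.IsoRu X) : Conway.Three X := by
  obtain ⟨e⟩ := h
  exact ⟨pairs_H.1.equiv (e.trans RuLat.Main.equiv), pairs_H.2.1.equiv (e.trans RuLat.Main.equiv),
    pairs_H.2.2.equiv (e.trans RuLat.Main.equiv)⟩

end Cfsg.Agent.H545.PQ.Rudvalis
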