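import Cfsg.Agent.H545.PQ.RowTool
import Cfsg.Agent.H545.PQ.Alt
import Cfsg.Agent.H545.PQ.ONan
import Cfsg.Agent.H545.PQ.Held
import Cfsg.Agent.H545.PQ.HaradaNorton
import Cfsg.Agent.H545.PQ.Thompson
import Cfsg.Agent.H545.PQ.Lyons
import Cfsg.Agent.H545.PQ.Conway
import Cfsg.Agent.H545.PQ.HigmanSims
import Cfsg.Agent.H545.PQ.JTwoThree
import Cfsg.Agent.H545.PQ.Mathieu
import Cfsg.Agent.H545.PQ.JFour
import Cfsg.Agent.H545.PQ.Monster
import Cfsg.Agent.H545.PQ.Baby
import Cfsg.Agent.H545.PQ.Suzuki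
import Cfsg.Agent.H545.PQ.FischerA
import Cfsg.Agent.H545.PQ.FischerB
import Cfsg.Agent.H545.PQ.FischerC
import Cfsg.Agent.H545.PQ.Rudvalis
import Cfsg.Agent.NotCT.Orders
import Cfsg.Agent.H498.SporOut

/-!
# The sporadic rows

`X` almost simple with sporadic socle `N`, without elements of order `p q`: the Sylow `p`-subgroups or the Sylow
`q`-subgroups of `X` are abelian, or `X` is the Monster and `{p, q}` is `{5, 13}` or `{7, 13}`.
-/

set_option autoImplicit false

namespace Cfsg.Agent.H545.PQ.Sporadic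

open Subgroup Cfsg Cfsg.Agent.H545.PQ

universe u

variable {X : Type u} [Group X]

theorem index_dvd_two [Finite X] (N : Subgroup X) [N.Normal] (hc : centralizer (N : Set X) = ⊥)
    (h : IsSporadicGroup N) : N.index ∣ 2 := by
  have h1 := index_dvd_out N hc
  have h2 := H498.SporOut.index_le_two h
  have hf : Finite (MulAut N) := inferInstance
  exact dvd_two_of_le h1 h2 index_ne_zero_of_finite

theorem row [Finite X] {N : Subgroup X} (hi : N.index ∣ 2) {n : ℕ} (hn : Nat.card N = n) (ps bad : List ℕ)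
    (hps : ∀ q ∈ ps, q.Prime) (hd : n ∣ ps.prod ^ 50) (hchk : Chk n ps bad = true) (h2 : 2 ∈ bad)
    (hpair : ∀ p ∈ bad, ∀ q ∈ bad, p < q → Pair p q N) {p q : ℕ} (hp : p.Prime) (hq : q.Prime) (hpq : p ≠ q)
    (hno : ∀ x : X, orderOf x ≠ p * q) : Concl p q X := by
  have h := concl_or (E := fun _ _ => False) (comm_of_order hi hn h2 fun p hp hb => not_cube ps hps hd hchk hp hb)
    (fun p hp q hq hlt => Or.inl (hpair p hp q hq hlt).sub) hp hq hpq hno
  simpa using h

theorem one {N : Type u} [Group N] : ∀ p ∈ [2], ∀ q ∈ [2], p < q → Pair p q N := by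
  intro p hp q hq hlt
  simp only [List.mem_cons, List.not_mem_nil, or_false] at hp hq
  omega

theorem two {N : Type u} [Group N] {a b : ℕ} (hab : a < b) (h : Pair a b N) :
    ∀ p ∈ [a, b], ∀ q ∈ [a, b], p < q → Pair p q N := by
  intro p hp q hq hlt
  simp only [List.mem_cons, List.not_mem_nil, or_false] at hp hq
  rcases hp with rfl | rfl <;> rcases hq with rfl | rfl
  · omega
  · exact h
  · omega
  · omega

theorem three {N : Type u} [Group N] {a b c : ℕ} (hab : a < b) (hbc : b < c) (h1 : Pair a b N) (h2 : Pair a c N)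
    (h3 : Pair b c N) : ∀ p ∈ [a, b, c], ∀ q ∈ [a, b, c], p < q → Pair p q N := by
  intro p hp q hq hlt
  simp only [List.mem_cons, List.not_mem_nil, or_false] at hp hq
  rcases hp with rfl | rfl | rfl <;> rcases hq with rfl | rfl | rfl
  · omega
  · exact h1
  · exact h2
  · omega
  · omega
  · exact h3
  · omega
  · omega
  · omega

theorem m11 [Finite X] {N : Subgroup X} [N.Normal] (hc : centralizer (N : Set X) = ⊥) (h : Spor.IsoM11 N) {p q : ℕ}
    (hp : p.Prime) (hq : q.Prime) (hpq : p ≠ q) (hno : ∀ x : X, orderOf x ≠ p * q) : Concl p q X := by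
  refine row (index_dvd_two N hc (by unfold IsSporadicGroup; tauto)) (NotCT.Orders.m11 h) [2, 3, 5, 11]
    [2] (by simp only [List.forall_mem_cons]; norm_num) (by decide +kernel) (by decide +kernel) (by simp) ?_ hp hq hpq hno
  exact one

theorem m12 [Finite X] {N : Subgroup X} [N.Normal] (hc : centralizer (N : Set X) = ⊥) (h : Spor.IsoM12 N) {p q : ℕ}
    (hp : p.Prime) (hq : q.Prime) (hpq : p ≠ q) (hno : ∀ x : X, orderOf x ≠ p * q) : Concl p q X := by
  refine row (index_dvd_two N hc (by unfold IsSporadicGroup; tauto)) (NotCT.Orders.m12 h) [2, 3, 5, 11]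
    [2, 3] (by simp only [List.forall_mem_cons]; norm_num) (by decide +kernel) (by decide +kernel) (by simp) ?_ hp hq hpq hno
  obtain ⟨e⟩ := h
  exact two (by norm_num) (Mathieu.m12.equiv e)

theorem m22 [Finite X] {N : Subgroup X} [N.Normal] (hc : centralizer (N : Set X) = ⊥) (h : Spor.IsoM22 N) {p q : ℕ}
    (hp : p.Prime) (hq : q.Prime) (hpq : p ≠ q) (hno : ∀ x : X, orderOf x ≠ p * q) : Concl p q X := by
  refine row (index_dvd_two N hc (by unfold IsSporadicGroup; tauto)) (NotCT.Orders.m22 h) [2, 3, 5, 7, 11]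
    [2] (by simp only [List.forall_mem_cons]; norm_num) (by decide +kernel) (by decide +kernel) (by simp) ?_ hp hq hpq hno
  exact one

theorem m23 [Finite X] {N : Subgroup X} [N.Normal] (hc : centralizer (N : Set X) = ⊥) (h : Spor.IsoM23 N) {p q : ℕ}
    (hp : p.Prime) (hq : q.Prime) (hpq : p ≠ q) (hno : ∀ x : X, orderOf x ≠ p * q) : Concl p q X := by
  refine row (index_dvd_two N hc (by unfold IsSporadicGroup; tauto)) (NotCT.Orders.m23 h) [2, 3, 5, 7, 11, 23]
    [2] (by simp only [List.forall_mem_cons]; norm_num) (by decide +kernel) (by decide +kernel) (by simp) ?_ hp hq hpq hno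
  exact one

theorem m24 [Finite X] {N : Subgroup X} [N.Normal] (hc : centralizer (N : Set X) = ⊥) (h : Spor.IsoM24 N) {p q : ℕ}
    (hp : p.Prime) (hq : q.Prime) (hpq : p ≠ q) (hno : ∀ x : X, orderOf x ≠ p * q) : Concl p q X := by
  refine row (index_dvd_two N hc (by unfold IsSporadicGroup; tauto)) (NotCT.Orders.m24 h) [2, 3, 5, 7, 11, 23]
    [2, 3] (by simp only [List.forall_mem_cons]; norm_num) (by decide +kernel) (by decide +kernel) (by simp) ?_ hp hq hpq hno
  obtain ⟨e⟩ := h
  exact two (by norm_num) (Mathieu.m24.equiv e)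

theorem j1 [Finite X] {N : Subgroup X} [N.Normal] (hc : centralizer (N : Set X) = ⊥) (h : Spor.IsoJ1 N) {p q : ℕ}
    (hp : p.Prime) (hq : q.Prime) (hpq : p ≠ q) (hno : ∀ x : X, orderOf x ≠ p * q) : Concl p q X := by
  refine row (index_dvd_two N hc (by unfold IsSporadicGroup; tauto)) (NotCT.Orders.j1 h) [2, 3, 5, 7, 11, 19]
    [2] (by simp only [List.forall_mem_cons]; norm_num) (by decide +kernel) (by decide +kernel) (by simp) ?_ hp hq hpq hno
  exact one

theorem j2 [Finite X] {N : Subgroup X} [N.Normal] (hc : centralizer (N : Set X) = ⊥) (h : Spor.IsoJ2 N) {p q : ℕ}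
    (hp : p.Prime) (hq : q.Prime) (hpq : p ≠ q) (hno : ∀ x : X, orderOf x ≠ p * q) : Concl p q X := by
  refine row (index_dvd_two N hc (by unfold IsSporadicGroup; tauto)) (NotCT.Orders.j2 h) [2, 3, 5, 7]
    [2, 3] (by simp only [List.forall_mem_cons]; norm_num) (by decide +kernel) (by decide +kernel) (by simp) ?_ hp hq hpq hno
  exact two (by norm_num) (JTwoThree.j2 h)

theorem j3 [Finite X] {N : Subgroup X} [N.Normal] (hc : centralizer (N : Set X) = ⊥) (h : Spor.IsoJ3 N) {p q : ℕ}
    (hp : p.Prime) (hq : q.Prime) (hpq : p ≠ q) (hno : ∀ x : X, orderOf x ≠ p * q) : Concl p q X := by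
  refine row (index_dvd_two N hc (by unfold IsSporadicGroup; tauto)) (NotCT.Orders.j3 h) [2, 3, 5, 17, 19]
    [2, 3] (by simp only [List.forall_mem_cons]; norm_num) (by decide +kernel) (by decide +kernel) (by simp) ?_ hp hq hpq hno
  exact two (by norm_num) (JTwoThree.j3 h)

theorem j4 [Finite X] {N : Subgroup X} [N.Normal] (hc : centralizer (N : Set X) = ⊥) (h : Spor.IsoJ4 N) {p q : ℕ}
    (hp : p.Prime) (hq : q.Prime) (hpq : p ≠ q) (hno : ∀ x : X, orderOf x ≠ p * q) : Concl p q X := by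
  refine row (index_dvd_two N hc (by unfold IsSporadicGroup; tauto)) (NotCT.Orders.j4 h) [2, 3, 5, 7, 11, 23, 29, 31, 37, 43]
    [2, 3, 11] (by simp only [List.forall_mem_cons]; norm_num) (by decide +kernel) (by decide +kernel) (by simp) ?_ hp hq hpq hno
  obtain ⟨a, b, c⟩ := JFour.pairs h
  exact three (by norm_num) (by norm_num) a b c

theorem co1 [Finite X] {N : Subgroup X} [N.Normal] (hc : centralizer (N : Set X) = ⊥) (h : Spor.IsoCo1 N) {p q : ℕ}
    (hp : p.Prime) (hq : q.Prime) (hpq : p ≠ q) (hno : ∀ x : X, orderOf x ≠ p * q) : Concl p q X := by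
  refine row (index_dvd_two N hc (by unfold IsSporadicGroup; tauto)) (NotCT.Orders.co1 h) [2, 3, 5, 7, 11, 13, 23]
    [2, 3, 5] (by simp only [List.forall_mem_cons]; norm_num) (by decide +kernel) (by decide +kernel) (by simp) ?_ hp hq hpq hno
  obtain ⟨e⟩ := h
  exact three (by norm_num) (by norm_num) (Conway.co1.1.equiv e) (Conway.co1.2.1.equiv e) (Conway.co1.2.2.equiv e)

theorem co2 [Finite X] {N : Subgroup X} [N.Normal] (hc : centralizer (N : Set X) = ⊥) (h : Spor.IsoCo2 N) {p q : ℕ}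
    (hp : p.Prime) (hq : q.Prime) (hpq : p ≠ q) (hno : ∀ x : X, orderOf x ≠ p * q) : Concl p q X := by
  refine row (index_dvd_two N hc (by unfold IsSporadicGroup; tauto)) (NotCT.Orders.co2 h) [2, 3, 5, 7, 11, 23]
    [2, 3, 5] (by simp only [List.forall_mem_cons]; norm_num) (by decide +kernel) (by decide +kernel) (by simp) ?_ hp hq hpq hno
  obtain ⟨e⟩ := h
  exact three (by norm_num) (by norm_num) (Conway.co2.1.equiv e) (Conway.co2.2.1.equiv e) (Conway.co2.2.2.equiv e)

theorem co3 [Finite X] {N : Subgroup X} [N.Normal] (hc : centralizer (N : Set X) = ⊥) (h : Spor.IsoCo3 N) {p q : ℕ}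
    (hp : p.Prime) (hq : q.Prime) (hpq : p ≠ q) (hno : ∀ x : X, orderOf x ≠ p * q) : Concl p q X := by
  refine row (index_dvd_two N hc (by unfold IsSporadicGroup; tauto)) (NotCT.Orders.co3 h) [2, 3, 5, 7, 11, 23]
    [2, 3, 5] (by simp only [List.forall_mem_cons]; norm_num) (by decide +kernel) (by decide +kernel) (by simp) ?_ hp hq hpq hno
  obtain ⟨e⟩ := h
  exact three (by norm_num) (by norm_num) (Conway.co3.1.equiv e) (Conway.co3.2.1.equiv e) (Conway.co3.2.2.equiv e)

theorem mcl [Finite X] {N : Subgroup X} [N.Normal] (hc : centralizer (N : Set X) = ⊥) (h : Spor.IsoMcL N) {p q : ℕ}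
    (hp : p.Prime) (hq : q.Prime) (hpq : p ≠ q) (hno : ∀ x : X, orderOf x ≠ p * q) : Concl p q X := by
  refine row (index_dvd_two N hc (by unfold IsSporadicGroup; tauto)) (NotCT.Orders.mcl h) [2, 3, 5, 7, 11]
    [2, 3, 5] (by simp only [List.forall_mem_cons]; norm_num) (by decide +kernel) (by decide +kernel) (by simp) ?_ hp hq hpq hno
  obtain ⟨e⟩ := h
  exact three (by norm_num) (by norm_num) (Conway.mcl.1.equiv e) (Conway.mcl.2.1.equiv e) (Conway.mcl.2.2.equiv e)

theorem hs [Finite X] {N : Subgroup X} [N.Normal] (hc : centralizer (N : Set X) = ⊥) (h : Spor.IsoHS N) {p q : ℕ}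
    (hp : p.Prime) (hq : q.Prime) (hpq : p ≠ q) (hno : ∀ x : X, orderOf x ≠ p * q) : Concl p q X := by
  refine row (index_dvd_two N hc (by unfold IsSporadicGroup; tauto)) (NotCT.Orders.hs h) [2, 3, 5, 7, 11]
    [2, 5] (by simp only [List.forall_mem_cons]; norm_num) (by decide +kernel) (by decide +kernel) (by simp) ?_ hp hq hpq hno
  exact two (by norm_num) (HigmanSims.pair_two_five h)

theorem suz [Finite X] {N : Subgroup X} [N.Normal] (hc : centralizer (N : Set X) = ⊥) (h : Spor.IsoSuz N) {p q : ℕ}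
    (hp : p.Prime) (hq : q.Prime) (hpq : p ≠ q) (hno : ∀ x : X, orderOf x ≠ p * q) : Concl p q X := by
  refine row (index_dvd_two N hc (by unfold IsSporadicGroup; tauto)) (NotCT.Orders.suz h) [2, 3, 5, 7, 11, 13]
    [2, 3] (by simp only [List.forall_mem_cons]; norm_num) (by decide +kernel) (by decide +kernel) (by simp) ?_ hp hq hpq hno
  exact two (by norm_num) (Suzuki.pair_two_three h)

theorem he [Finite X] {N : Subgroup X} [N.Normal] (hc : centralizer (N : Set X) = ⊥) (h : Spor.IsoHe N) {p q : ℕ}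
    (hp : p.Prime) (hq : q.Prime) (hpq : p ≠ q) (hno : ∀ x : X, orderOf x ≠ p * q) : Concl p q X := by
  refine row (index_dvd_two N hc (by unfold IsSporadicGroup; tauto)) (NotCT.Orders.he h) [2, 3, 5, 7, 17]
    [2, 3, 7] (by simp only [List.forall_mem_cons]; norm_num) (by decide +kernel) (by decide +kernel) (by simp) ?_ hp hq hpq hno
  obtain ⟨e⟩ := h
  exact three (by norm_num) (by norm_num) (Held.pair_two_three.equiv e) (Held.pair_two_seven.equiv e) (Held.pair_three_seven.equiv e)

theorem ru [Finite X] {N : Subgroup X} [N.Normal] (hc : centralizer (N : Set X) = ⊥) (h : Spor.IsoRu N) {p q : ℕ}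
    (hp : p.Prime) (hq : q.Prime) (hpq : p ≠ q) (hno : ∀ x : X, orderOf x ≠ p * q) : Concl p q X := by
  refine row (index_dvd_two N hc (by unfold IsSporadicGroup; tauto)) (NotCT.Orders.ru h) [2, 3, 5, 7, 13, 29]
    [2, 3, 5] (by simp only [List.forall_mem_cons]; norm_num) (by decide +kernel) (by decide +kernel) (by simp) ?_ hp hq hpq hno
  obtain ⟨a, b, c⟩ := Rudvalis.pairs h
  exact three (by norm_num) (by norm_num) a b c

theorem ly [Finite X] {N : Subgroup X} [N.Normal] (hc : centralizer (N : Set X) = ⊥) (h : Spor.IsoLy N) {p q : ℕ}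
    (hp : p.Prime) (hq : q.Prime) (hpq : p ≠ q) (hno : ∀ x : X, orderOf x ≠ p * q) : Concl p q X := by
  refine row (index_dvd_two N hc (by unfold IsSporadicGroup; tauto)) (NotCT.Orders.ly h) [2, 3, 5, 7, 11, 31, 37, 67]
    [2, 3, 5] (by simp only [List.forall_mem_cons]; norm_num) (by decide +kernel) (by decide +kernel) (by simp) ?_ hp hq hpq hno
  obtain ⟨e⟩ := h
  exact three (by norm_num) (by norm_num) (Lyons.pairs.1.equiv e) (Lyons.pairs.2.1.equiv e) (Lyons.pairs.2.2.equiv e)

theorem fi22 [Finite X] {N : Subgroup X} [N.Normal] (hc : centralizer (N : Set X) = ⊥) (h : Spor.IsoFi22 N) {p q : ℕ}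
    (hp : p.Prime) (hq : q.Prime) (hpq : p ≠ q) (hno : ∀ x : X, orderOf x ≠ p * q) : Concl p q X := by
  refine row (index_dvd_two N hc (by unfold IsSporadicGroup; tauto)) (NotCT.Orders.fi22 h) [2, 3, 5, 7, 11, 13]
    [2, 3] (by simp only [List.forall_mem_cons]; norm_num) (by decide +kernel) (by decide +kernel) (by simp) ?_ hp hq hpq hno
  exact two (by norm_num) (FischerA.pair_two_three h)

theorem fi23 [Finite X] {N : Subgroup X} [N.Normal] (hc : centralizer (N : Set X) = ⊥) (h : Spor.IsoFi23 N) {p q : ℕ}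
    (hp : p.Prime) (hq : q.Prime) (hpq : p ≠ q) (hno : ∀ x : X, orderOf x ≠ p * q) : Concl p q X := by
  refine row (index_dvd_two N hc (by unfold IsSporadicGroup; tauto)) (NotCT.Orders.fi23 h) [2, 3, 5, 7, 11, 13, 17, 23]
    [2, 3] (by simp only [List.forall_mem_cons]; norm_num) (by decide +kernel) (by decide +kernel) (by simp) ?_ hp hq hpq hno
  exact two (by norm_num) (FischerB.pair_two_three h)

theorem fi24 [Finite X] {N : Subgroup X} [N.Normal] (hc : centralizer (N : Set X) = ⊥) (h : Spor.IsoFi24' N) {p q : ℕ}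
    (hp : p.Prime) (hq : q.Prime) (hpq : p ≠ q) (hno : ∀ x : X, orderOf x ≠ p * q) : Concl p q X := by
  refine row (index_dvd_two N hc (by unfold IsSporadicGroup; tauto)) (NotCT.Orders.fi24 h) [2, 3, 5, 7, 11, 13, 17, 23, 29]
    [2, 3, 7] (by simp only [List.forall_mem_cons]; norm_num) (by decide +kernel) (by decide +kernel) (by simp) ?_ hp hq hpq hno
  obtain ⟨e⟩ := h
  exact three (by norm_num) (by norm_num) (FischerC.pair_two_three.equiv e) (FischerC.pair_two_seven.equiv e)
    (FischerC.pair_three_seven.equiv e)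

theorem hn [Finite X] {N : Subgroup X} [N.Normal] (hc : centralizer (N : Set X) = ⊥) (h : Spor.IsoHN N) {p q : ℕ}
    (hp : p.Prime) (hq : q.Prime) (hpq : p ≠ q) (hno : ∀ x : X, orderOf x ≠ p * q) : Concl p q X := by
  refine row (index_dvd_two N hc (by unfold IsSporadicGroup; tauto)) (NotCT.Orders.hn h) [2, 3, 5, 7, 11, 19]
    [2, 3, 5] (by simp only [List.forall_mem_cons]; norm_num) (by decide +kernel) (by decide +kernel) (by simp) ?_ hp hq hpq hno
  obtain ⟨e⟩ := h
  exact three (by norm_num) (by norm_num) (HaradaNorton.pair_two_three.equiv e) (HaradaNorton.pair_two_five.equiv e)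
    (HaradaNorton.pair_three_five.equiv e)

theorem th [Finite X] {N : Subgroup X} [N.Normal] (hc : centralizer (N : Set X) = ⊥) (h : Spor.IsoTh N) {p q : ℕ}
    (hp : p.Prime) (hq : q.Prime) (hpq : p ≠ q) (hno : ∀ x : X, orderOf x ≠ p * q) : Concl p q X := by
  refine row (index_dvd_two N hc (by unfold IsSporadicGroup; tauto)) (NotCT.Orders.th h) [2, 3, 5, 7, 13, 19, 31]
    [2, 3, 5] (by simp only [List.forall_mem_cons]; norm_num) (by decide +kernel) (by decide +kernel) (by simp) ?_ hp hq hpq hno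
  obtain ⟨e⟩ := h
  exact three (by norm_num) (by norm_num) (Thompson.pair_two_three.equiv e) (Thompson.pair_two_five.equiv e)
    (Thompson.pair_three_five.equiv e)

theorem b [Finite X] {N : Subgroup X} [N.Normal] (hc : centralizer (N : Set X) = ⊥) (h : Spor.IsoB N) {p q : ℕ}
    (hp : p.Prime) (hq : q.Prime) (hpq : p ≠ q) (hno : ∀ x : X, orderOf x ≠ p * q) : Concl p q X := by
  refine row (index_dvd_two N hc (by unfold IsSporadicGroup; tauto)) (NotCT.Orders.b h) [2, 3, 5, 7, 11, 13, 17, 19, 23, 31, 47]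
    [2, 3, 5] (by simp only [List.forall_mem_cons]; norm_num) (by decide +kernel) (by decide +kernel) (by simp) ?_ hp hq hpq hno
  obtain ⟨e⟩ := h
  exact three (by norm_num) (by norm_num) (Baby.pairs.1.equiv e) (Baby.pairs.2.1.equiv e) (Baby.pairs.2.2.equiv e)


theorem on_three [Fact (Nat.Prime 3)] {N : Type*} [Group N] (h : Spor.IsoON N) (P : Sylow 3 N) :
    ∀ x ∈ (P : Subgroup N), ∀ y ∈ (P : Subgroup N), x * y = y * x := by
  obtain ⟨e⟩ := h
  have hP : IsPGroup 3 ((P : Subgroup N).map e.toMonoidHom) := P.isPGroup'.map _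
  obtain ⟨Q, hQ⟩ := hP.exists_le_sylow
  have hc := ONan.three_abelian Q
  intro x hx y hy
  have h1 := (isMulCommutative_iff.1 hc) ⟨e x, hQ (mem_map_of_mem _ hx)⟩ ⟨e y, hQ (mem_map_of_mem _ hy)⟩
  have h2 := congrArg Subtype.val h1
  simp only [Subgroup.coe_mul] at h2
  rw [← map_mul, ← map_mul] at h2
  exact e.injective h2

theorem on [Finite X] {N : Subgroup X} [N.Normal] (hc : centralizer (N : Set X) = ⊥) (h : Spor.IsoON N) {p q : ℕ}
    (hp : p.Prime) (hq : q.Prime) (hpq : p ≠ q) (hno : ∀ x : X, orderOf x ≠ p * q) : Concl p q X := by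
  have hi : N.index ∣ 2 := index_dvd_two N hc (by unfold IsSporadicGroup; tauto)
  have h3 : Fact (Nat.Prime 3) := ⟨Nat.prime_three⟩
  have h0 : ∀ r : ℕ, r.Prime → r ∉ [2, 7] → ∀ P : Sylow r X, IsMulCommutative (P : Subgroup X) := by
    intro r hr hb P
    by_cases hr3 : r = 3
    · subst hr3
      obtain ⟨T⟩ : Nonempty (Sylow 3 N) := inferInstance
      have hT := on_three h T
      refine sylow_comm_of_index (P := (T : Subgroup N).map N.subtype) ?_ ?_ P
      · rw [index_map_of_injective _ N.subtype_injective, range_subtype]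
        intro hd
        rcases hr.dvd_mul.1 hd with h1 | h1
        · exact T.not_dvd_index h1
        · have := Nat.le_of_dvd (by norm_num) (h1.trans hi)
          omega
      · rintro _ ⟨x, hx, rfl⟩ _ ⟨y, hy, rfl⟩
        have := hT x hx y hy
        rw [← map_mul, this, map_mul]
    · refine comm_of_order hi (NotCT.Orders.on h) (bad := [2, 3, 7]) (by simp)
        (fun p hp hb => not_cube [2, 3, 5, 7, 11, 19, 31] (by simp only [List.forall_mem_cons]; norm_num)
          (by decide +kernel) (by decide +kernel) hp hb) r hr ?_ P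
      simp only [List.mem_cons, List.not_mem_nil, or_false] at hb ⊢
      tauto
  obtain ⟨e⟩ := h
  have h1 := concl_or (E := fun _ _ => False) h0 (fun p hp q hq hlt =>
    Or.inl (two (by norm_num) (ONan.pair_two_seven.equiv e) p hp q hq hlt).sub) hp hq hpq hno
  simpa using h1

/-- the exceptional pairs of the Monster -/
def Exc (p q : ℕ) : Prop := (p = 5 ∧ q = 13) ∨ (p = 7 ∧ q = 13)

theorem m_pairs {N : Type u} [Group N] (e : N ≃* Cfsg.Spor.Monster) : ∀ p ∈ [2, 3, 5, 7, 13], ∀ q ∈ [2, 3, 5, 7, 13],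
    p < q → Pair p q N ∨ Exc p q := by
  intro p hp q hq hlt
  simp only [List.mem_cons, List.not_mem_nil, or_false] at hp hq
  rcases hp with rfl | rfl | rfl | rfl | rfl <;> rcases hq with rfl | rfl | rfl | rfl | rfl <;>
    first
      | (exfalso; omega)
      | exact Or.inr (by unfold Exc; omega)
      | exact Or.inl ((Monster.pair_two (by norm_num) (by norm_num)).equiv e)
      | exact Or.inl ((Monster.pair_three (by norm_num) (by norm_num)).equiv e)
      | exact Or.inl ((Monster.pair_five (by norm_num) (by norm_num)).equiv e)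

theorem m_top [Finite X] {N : Subgroup X} [N.Normal] (hc : centralizer (N : Set X) = ⊥) (h : Spor.IsoM N) :
    Spor.IsoM X := by
  have h1 := index_dvd_out N hc
  obtain ⟨e⟩ := h
  rw [H498.SporOut.index_congr e] at h1
  have h2 : (MulAut.conj : Cfsg.Spor.Monster →* MulAut Cfsg.Spor.Monster).range.index = 1 := S2085.result
  rw [h2, Nat.dvd_one, index_eq_one] at h1
  subst h1
  exact ⟨(topEquiv.symm).trans e⟩

theorem m [Finite X] {N : Subgroup X} [N.Normal] (hc : centralizer (N : Set X) = ⊥) (h : Spor.IsoM N) {p q : ℕ}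
    (hp : p.Prime) (hq : q.Prime) (hpq : p ≠ q) (hno : ∀ x : X, orderOf x ≠ p * q) :
    Concl p q X ∨ ((Exc p q ∨ Exc q p) ∧ Spor.IsoM X) := by
  have hi : N.index ∣ 2 := index_dvd_two N hc (by unfold IsSporadicGroup; tauto)
  have hX := m_top hc h
  have h0 := comm_of_order hi (NotCT.Orders.m h) (bad := [2, 3, 5, 7, 13]) (by simp)
        (fun p hp hb => not_cube [2, 3, 5, 7, 11, 13, 17, 19, 23, 29, 31, 41, 47, 59, 71]
          (by simp only [List.forall_mem_cons]; norm_num) (by decide +kernel) (by decide +kernel) hp hb)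
  obtain ⟨e⟩ := h
  have h1 := concl_or (E := Exc) h0 (fun p hp q hq hlt => (m_pairs e p hp q hq hlt).imp Pair.sub id) hp hq hpq hno
  rcases h1 with h1 | h1
  · exact Or.inl h1
  · exact Or.inr ⟨h1, hX⟩

/-- **The sporadic case.** -/
theorem main [Finite X] {N : Subgroup X} [N.Normal] (hc : centralizer (N : Set X) = ⊥) (h : IsSporadicGroup N) {p q : ℕ}
    (hp : p.Prime) (hq : q.Prime) (hpq : p ≠ q) (hno : ∀ x : X, orderOf x ≠ p * q) :
    Concl p q X ∨ ((Exc p q ∨ Exc q p) ∧ Spor.IsoM X) := by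
  rcases h with h | h | h | h | h | h | h | h | h | h | h | h | h | h | h | h | h | h |
      h | h | h | h | h | h | h | h
  · exact Or.inl (m11 hc h hp hq hpq hno)
  · exact Or.inl (m12 hc h hp hq hpq hno)
  · exact Or.inl (m22 hc h hp hq hpq hno)
  · exact Or.inl (m23 hc h hp hq hpq hno)
  · exact Or.inl (m24 hc h hp hq hpq hno)
  · exact Or.inl (j1 hc h hp hq hpq hno)
  · exact Or.inl (j2 hc h hp hq hpq hno)
  · exact Or.inl (j3 hc h hp hq hpq hno)
  · exact Or.inl (j4 hc h hp hq hpq hno)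
  · exact Or.inl (co1 hc h hp hq hpq hno)
  · exact Or.inl (co2 hc h hp hq hpq hno)
  · exact Or.inl (co3 hc h hp hq hpq hno)
  · exact Or.inl (mcl hc h hp hq hpq hno)
  · exact Or.inl (hs hc h hp hq hpq hno)
  · exact Or.inl (suz hc h hp hq hpq hno)
  · exact Or.inl (he hc h hp hq hpq hno)
  · exact Or.inl (ru hc h hp hq hpq hno)
  · exact Or.inl (on hc h hp hq hpq hno)
  · exact Or.inl (ly hc h hp hq hpq hno)
  · exact Or.inl (fi22 hc h hp hq hpq hno)
  · exact Or.inl (fi23 hc h hp hq hpq hno)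
  · exact Or.inl (fi24 hc h hp hq hpq hno)
  · exact Or.inl (hn hc h hp hq hpq hno)
  · exact Or.inl (th hc h hp hq hpq hno)
  · exact Or.inl (b hc h hp hq hpq hno)
  · exact m hc h hp hq hpq hno

end Cfsg.Agent.H545.PQ.Sporadic
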